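import Cfsg.Agent.Lib.Classical.GSpMax
import Cfsg.Agent.Lib.Classical.HermGSimMax
import Cfsg.Agent.Lib.Classical.SimMaxTransv
import Cfsg.Agent.Lib.Classical.SubfieldMax.Main

/-!
# Geometric subgroups of `SL_n(q)` are maximal in small dimensions
-/

set_option autoImplicit false
set_option linter.unusedSectionVars false
set_option linter.unusedSimpArgs false

open Cfsg

namespace CfsgLib.Classical.GeoMaxSmall

theorem exists_ne_zero_one {F : Type*} [Field F] [Fintype F] (hq : 3 ≤ Fintype.card F) :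
    ∃ t : F, t ≠ 0 ∧ t ≠ 1 := by
  classical
  obtain ⟨t, -, ht⟩ := Finset.exists_mem_notMem_of_card_lt_card (s := ({0, 1} : Finset F)) (t := Finset.univ)
    (Finset.card_le_two.trans_lt (by rw [Finset.card_univ]; omega))
  simp only [Finset.mem_insert, Finset.mem_singleton, not_or] at ht
  exact ⟨t, ht.1, ht.2⟩

theorem subfield_maximal {F : Type*} [Field F] [Fintype F] (n : ℕ) (hn : 5 ≤ n) (F₀ : Subfield F) (r : ℕ) (hr : r.Prime) (hcard : Fintype.card F = Nat.card F₀ ^ r) (P : Matrix.GeneralLinearGroup (Fin n) F) : Cfsg.Geo.IsMaximalIn (Cfsg.Geo.specialLinear (Fin n) F) (Cfsg.Geo.subfieldSubgroup F₀ P ⊓ Cfsg.Geo.specialLinear (Fin n) F) := by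
  classical
  open Matrix in
  haveI hnorm : (Geo.scalars (Fin n) F).Normal := ⟨fun s hs g => by
    obtain ⟨c, hc⟩ := (Geo.mem_scalars_iff s).1 hs
    refine (Geo.mem_scalars_iff _).2 ⟨c, ?_⟩
    rw [Units.val_mul, Units.val_mul, hc, Matrix.mul_smul, Matrix.mul_one, Matrix.smul_mul, ← Units.val_mul,
      mul_inv_cancel, Units.val_one]⟩
  have hmem : ∀ g, g ∈ Geo.subfieldSubgroup F₀ P ↔
      ∃ c : F, c ≠ 0 ∧ ∀ a b, c * ((P⁻¹ * g * P : GL (Fin n) F) : Matrix (Fin n) (Fin n) F) a b ∈ F₀ := by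
    intro g
    rw [Geo.subfieldSubgroup, Subgroup.mem_map]
    constructor
    · rintro ⟨y, hy, rfl⟩
      obtain ⟨a, ⟨A, rfl⟩, s, hs, rfl⟩ := Subgroup.mem_sup_of_normal_right.1 hy
      obtain ⟨c, hc⟩ := (Geo.mem_scalars_iff s).1 hs
      refine ⟨(c⁻¹ : Fˣ), Units.ne_zero _, fun i j => ?_⟩
      rw [show P⁻¹ * (MulAut.conj P).toMonoidHom (Matrix.GeneralLinearGroup.map F₀.subtype A * s) * P =
        Matrix.GeneralLinearGroup.map F₀.subtype A * s by
          rw [MulEquiv.coe_toMonoidHom, MulAut.conj_apply]; group]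
      rw [Units.val_mul, hc, Matrix.mul_smul, Matrix.mul_one, Matrix.smul_apply, smul_eq_mul, ← mul_assoc,
        ← Units.val_mul, inv_mul_cancel, Units.val_one, one_mul, Matrix.GeneralLinearGroup.map_apply]
      exact SetLike.coe_mem _
    · rintro ⟨c, hc, hA⟩
      set h := P⁻¹ * g * P with hh
      let A : Matrix (Fin n) (Fin n) F₀ := fun i j => ⟨c * (h : Matrix (Fin n) (Fin n) F) i j, hA i j⟩
      have hmap : A.map F₀.subtype = c • (h : Matrix (Fin n) (Fin n) F) := rfl
      have hd : A.det ≠ 0 := fun e => by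
        have := congrArg F₀.subtype e
        rw [map_zero, RingHom.map_det, RingHom.mapMatrix_apply, hmap, Matrix.det_smul] at this
        exact mul_ne_zero (pow_ne_zero _ hc) h.det_ne_zero this
      refine ⟨h, Subgroup.mem_sup_of_normal_right.2 ⟨_, ⟨Matrix.GeneralLinearGroup.mkOfDetNeZero A hd, rfl⟩,
        (Matrix.GeneralLinearGroup.map F₀.subtype (Matrix.GeneralLinearGroup.mkOfDetNeZero A hd))⁻¹ * h, ?_,
        mul_inv_cancel_left _ _⟩, by rw [MulEquiv.coe_toMonoidHom, MulAut.conj_apply, hh]; group⟩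
      refine (Geo.mem_scalars_iff _).2 ⟨(Units.mk0 c hc)⁻¹, ?_⟩
      rw [Units.val_mul, show ((h : GL (Fin n) F) : Matrix (Fin n) (Fin n) F) =
        ((Units.mk0 c hc)⁻¹ : Fˣ).val • ((Matrix.GeneralLinearGroup.map F₀.subtype
          (Matrix.GeneralLinearGroup.mkOfDetNeZero A hd) : GL (Fin n) F) : Matrix (Fin n) (Fin n) F) from by
        ext i j
        rw [Matrix.smul_apply, Matrix.GeneralLinearGroup.map_apply, smul_eq_mul]
        show _ = _ * (c * (h : Matrix (Fin n) (Fin n) F) i j)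
        rw [Units.val_inv_eq_inv_val, Units.val_mk0, inv_mul_cancel_left₀ hc], Matrix.mul_smul, ← Units.val_mul,
        inv_mul_cancel, Units.val_one]
  have hsl : ∀ (Q s : GL (Fin n) F), s ∈ Geo.specialLinear (Fin n) F → Q * s * Q⁻¹ ∈ Geo.specialLinear (Fin n) F :=
    fun Q s hs => (MonoidHom.normal_ker _).conj_mem s hs Q
  refine ⟨lt_of_le_of_ne inf_le_right ?_, fun M hM hMK => ?_⟩
  · intro he
    obtain ⟨lam, hlam⟩ : ∃ lam : F, lam ∉ F₀ := by
      by_contra h
      push Not at h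
      have h1 : Fintype.card F = Nat.card F₀ := by
        rw [← Nat.card_eq_fintype_card]
        exact (Nat.card_congr (Equiv.subtypeUnivEquiv h)).symm
      rw [h1] at hcard
      exact (lt_self_pow₀ (Finite.one_lt_card (α := F₀)) hr.one_lt).ne hcard
    set i : Fin n := ⟨0, by omega⟩
    set j : Fin n := ⟨1, by omega⟩
    have hij : i ≠ j := by simp [i, j, Fin.ext_iff]
    have h0 : (Pi.single j 1 : Fin n → F) ⬝ᵥ (lam • Pi.single i 1) = 0 := by simp [hij.symm]
    have hin : P * CfsgLib.Classical.trGL (lam • Pi.single i 1) (Pi.single j 1) h0 * P⁻¹ ∈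
        Geo.specialLinear (Fin n) F := hsl _ _ (CfsgLib.Classical.trGL_mem_sl _ _ _)
    obtain ⟨c, hc0, hc⟩ := (hmem _).1 (he.symm.le hin).1
    rw [show P⁻¹ * (P * CfsgLib.Classical.trGL (lam • Pi.single i 1) (Pi.single j 1) h0 * P⁻¹) * P =
      CfsgLib.Classical.trGL (lam • Pi.single i 1) (Pi.single j 1) h0 by group] at hc
    have h1 := hc i i
    have h2 := hc i j
    simp [CfsgLib.Classical.trGL, CfsgLib.Classical.trMat, Matrix.vecMulVec_apply, hij, hij.symm] at h1 h2
    exact hlam (by simpa [hc0] using mul_mem (inv_mem h1) h2)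
  · rcases eq_or_ne M (Geo.subfieldSubgroup F₀ P ⊓ Geo.specialLinear (Fin n) F) with h | h
    · exact Or.inl h
    refine Or.inr (le_antisymm hMK ?_)
    obtain ⟨g, hg, hgH⟩ := SetLike.not_le_iff_exists.1 fun hle => h (le_antisymm hle hM)
    have hle := CfsgLib.Classical.SubfieldMax.sl_le (F₀ := F₀) (M := M.map (MulAut.conj P⁻¹).toMonoidHom)
      (fun a β ha hβ hab => ⟨hab, P * CfsgLib.Classical.trGL a β hab * P⁻¹, hM ⟨(hmem _).2 ⟨1, one_ne_zero, fun i j => by
        rw [show P⁻¹ * (P * CfsgLib.Classical.trGL a β hab * P⁻¹) * P = CfsgLib.Classical.trGL a β hab by group, one_mul]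
        simp only [CfsgLib.Classical.trGL, CfsgLib.Classical.trMat, Matrix.add_apply, Matrix.one_apply,
          Matrix.vecMulVec_apply]
        refine add_mem ?_ (mul_mem (ha i) (hβ j))
        split_ifs <;> [exact one_mem _; exact zero_mem _]⟩, hsl _ _ (CfsgLib.Classical.trGL_mem_sl _ _ _)⟩, by
          rw [MulEquiv.coe_toMonoidHom, MulAut.conj_apply]; group⟩)
      (by rwa [Fintype.card_fin]) hr hcard
      (g := P⁻¹ * g * P) ⟨g, hg, by rw [MulEquiv.coe_toMonoidHom, MulAut.conj_apply, inv_inv]⟩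
      (fun hc => hgH ⟨(hmem g).2 hc, hMK hg⟩)
    intro s hs
    obtain ⟨m, hm, hme⟩ := hle (x := P⁻¹ * s * P) (by simpa using hsl P⁻¹ s hs)
    rw [MulEquiv.coe_toMonoidHom, MulAut.conj_apply, inv_inv] at hme
    rwa [mul_left_cancel (mul_right_cancel hme)] at hm

theorem symplectic_maximal {F : Type*} [Field F] [Fintype F] (n : ℕ) (hn : 3 ≤ n) (f : (Fin n → F) → (Fin n → F) → F) (hf : Cfsg.Geo.IsSymplecticForm f) : Cfsg.Geo.IsMaximalIn (Cfsg.Geo.specialLinear (Fin n) F) (Cfsg.Geo.similarityGroup f ⊓ Cfsg.Geo.specialLinear (Fin n) F) := by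
  classical
  let B : (Fin n → F) →ₗ[F] (Fin n → F) →ₗ[F] F :=
    LinearMap.mk₂ F f hf.bilinear.add_left hf.bilinear.smul_left hf.bilinear.add_right
      (fun c v x => hf.bilinear.smul_right c v x)
  have hA : B.IsAlt := hf.alternating
  have hN : B.Nondegenerate := ⟨fun x hx => by
      by_contra h
      obtain ⟨y, hy⟩ := (hf.nondegenerate x h).2
      exact hy (hx y), fun y hy => by
      by_contra h
      obtain ⟨x, hx⟩ := (hf.nondegenerate y h).1
      exact hx (hy x)⟩
  have htr : ∀ (v : Fin n → F) (c : F), CfsgLib.Classical.linToGL (CfsgLib.Classical.tv hA v c).1 ∈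
      Cfsg.Geo.similarityGroup f ⊓ Cfsg.Geo.specialLinear (Fin n) F := fun v c =>
    ⟨⟨1, fun a b => by
      rw [CfsgLib.Classical.linToGL_mulVec, CfsgLib.Classical.linToGL_mulVec, Units.val_one, one_mul]
      exact (CfsgLib.Classical.tv hA v c).2 a b⟩, by
      rw [CfsgLib.Classical.tv_eq_trGL]; exact CfsgLib.Classical.trGL_mem_sl _ _ _⟩
  refine ⟨lt_of_le_not_ge inf_le_right fun h => ?_, fun M hM hMS => ?_⟩
  · haveI : Nontrivial (Fin n → F) := Module.finrank_pos_iff.1 (by rw [Module.finrank_fin_fun]; omega : 0 < Module.finrank F (Fin n → F))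
    obtain ⟨a, ha⟩ := exists_ne (0 : Fin n → F)
    obtain ⟨b, hb, hba⟩ : ∃ b ∈ LinearMap.ker (B a), b ∉ Submodule.span F {a} := by
      refine SetLike.not_le_iff_exists.1 fun hle => ?_
      have h1 := Submodule.finrank_mono hle
      rw [finrank_span_singleton ha] at h1
      have h2 := (B a).finrank_range_add_finrank_ker
      have h3 := (Submodule.finrank_le (LinearMap.range (B a))).trans (Module.finrank_self F).le
      rw [Module.finrank_fin_fun] at h2
      omega
    have hab : B a b = 0 := hb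
    have hba' : B b a = 0 := hA.isRefl _ _ hab
    have hab2 : a ∉ Submodule.span F {b} := fun hc => by
      obtain ⟨t, ht⟩ := Submodule.mem_span_singleton.1 hc
      have ht0 : t ≠ 0 := by rintro rfl; exact ha (by simpa using ht.symm)
      exact hba (Submodule.mem_span_singleton.2 ⟨t⁻¹, by rw [← ht, smul_smul, inv_mul_cancel₀ ht0, one_smul]⟩)
    obtain ⟨x₀, hx₀, hx₀'⟩ := CfsgLib.Classical.exists_perp_not_orth hN.2 (W := Submodule.span F {a}) hba
    obtain ⟨y₀, hy₀, hy₀'⟩ := CfsgLib.Classical.exists_perp_not_orth hN.2 (W := Submodule.span F {b}) hab2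
    have hax : B a x₀ = 0 := CfsgLib.Classical.mem_perp.1 hx₀ a (Submodule.mem_span_singleton_self a)
    have hby : B b y₀ = 0 := CfsgLib.Classical.mem_perp.1 hy₀ b (Submodule.mem_span_singleton_self b)
    have h0 : CfsgLib.Classical.funVec (B b) ⬝ᵥ a = 0 := by rw [CfsgLib.Classical.funVec_dot, hba']
    obtain ⟨c, hc⟩ := (h (CfsgLib.Classical.trGL_mem_sl a (CfsgLib.Classical.funVec (B b)) h0)).1
    simp only [CfsgLib.Classical.trGL_mulVec, CfsgLib.Classical.funVec_dot] at hc
    change ∀ u v, B (u + B b u • a) (v + B b v • a) = (c : F) * B u v at hc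
    have h1 := hc a y₀
    have h2 := hc x₀ y₀
    simp only [map_add, map_smul, LinearMap.add_apply, LinearMap.smul_apply, smul_eq_mul, hA a, hba', hby] at h1 h2
    have hc1 : (c : F) = 1 := mul_right_cancel₀ hy₀' (by linear_combination -h1)
    rw [hc1] at h2
    exact mul_ne_zero hx₀' hy₀' (by linear_combination h2)
  · by_cases hMs : M ≤ Cfsg.Geo.similarityGroup f
    · exact Or.inl (le_antisymm (le_inf hMs hMS) hM)
    obtain ⟨g, hg, hgs⟩ := SetLike.not_le_iff_exists.1 hMs
    exact Or.inr (le_antisymm hMS (CfsgLib.Classical.gsp_maximal hA hN M (fun v c => hM (htr v c)) hg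
      fun ⟨c, hc⟩ => hgs ⟨c, hc⟩))

theorem unitary_maximal {F : Type*} [Field F] [Fintype F] (n : ℕ) (hn : 6 ≤ n) (σ : F ≃+* F) (f : (Fin n → F) → (Fin n → F) → F) (hf : Cfsg.Geo.IsUnitaryForm σ f) : Cfsg.Geo.IsMaximalIn (Cfsg.Geo.specialLinear (Fin n) F) (Cfsg.Geo.similarityGroup f ⊓ Cfsg.Geo.specialLinear (Fin n) F) := by
  let s : F →+* F := σ.toRingHom
  have hconj : CfsgLib.Classical.IsConjugation s := ⟨hf.involutive, fun e => hf.ne_refl (RingEquiv.ext fun x =>
    RingHom.congr_fun e x)⟩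
  have haddr : ∀ x y v, f v (x + y) = f v x + f v y := fun x y v => by
    rw [hf.herm v (x + y), hf.add_left, map_add, ← hf.herm, ← hf.herm]
  have hsmulr : ∀ (c : F) x v, f v (c • x) = σ c * f v x := fun c x v => by
    rw [hf.herm v (c • x), hf.smul_left, map_mul, ← hf.herm]
  let B : (Fin n → F) →ₛₗ[s] (Fin n → F) →ₗ[F] F :=
    LinearMap.mk₂'ₛₗ s (RingHom.id F) (fun x y => f y x) (fun x x' y => haddr x x' y)
      (fun c x y => hsmulr c x y) (fun x y y' => hf.add_left y y' x) (fun c x y => hf.smul_left c y x)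
  have hB : CfsgLib.Classical.IsHermitian B := ⟨hconj, fun x y => (hf.herm x y).symm⟩
  have hN : B.SeparatingRight := fun y hy => by
    by_contra hne
    obtain ⟨x, hx⟩ := (hf.nondegenerate y hne).2
    exact hx (hy x)
  have hiff : ∀ g : GL (Fin n) F, g ∈ Cfsg.Geo.similarityGroup f ↔ ∃ c : Fˣ, ∀ u v,
      B ((g : Matrix (Fin n) (Fin n) F).mulVec u) ((g : Matrix (Fin n) (Fin n) F).mulVec v) = c * B u v := fun g =>
    ⟨fun ⟨c, hc⟩ => ⟨c, fun u v => hc v u⟩, fun ⟨c, hc⟩ => ⟨c, fun u v => hc v u⟩⟩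
  refine ⟨lt_of_le_not_ge inf_le_right fun hle => ?_, fun M hM hMS => ?_⟩
  · obtain ⟨g, hg, hgn⟩ := hB.exists_sl_not_similar hN (by omega)
    exact hgn ((hiff g).1 (hle hg).1)
  · by_cases hMs : M ≤ Cfsg.Geo.similarityGroup f
    · exact Or.inl (le_antisymm (le_inf hMs hMS) hM)
    obtain ⟨g, hg, hgs⟩ := SetLike.not_le_iff_exists.1 hMs
    refine Or.inr (le_antisymm hMS (hB.gsim_le hN (by omega) M (fun t ht => hM ?_) hg fun hc => hgs ((hiff g).2 hc)))
    refine Subgroup.mem_inf.2 ⟨(hiff _).2 ⟨1, fun u v => ?_⟩, CfsgLib.Classical.mem_specialLinear_iff.2 ?_⟩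
    · rw [CfsgLib.Classical.linToGL_mulVec, CfsgLib.Classical.linToGL_mulVec, Units.val_one, one_mul]
      exact t.2 u v
    · change (LinearMap.toMatrix' (t.1 : (Fin n → F) →ₗ[F] (Fin n → F))).det = 1
      rw [LinearMap.det_toMatrix']
      exact ht

theorem orth_maximal {F : Type*} [Field F] [Fintype F] (n : ℕ) (hn : 6 ≤ n) (hodd : Odd (Fintype.card F)) (Q : (Fin n → F) → F) (hQ : Cfsg.Geo.IsNondegenerateQuadraticForm Q) : Cfsg.Geo.IsMaximalIn (Cfsg.Geo.specialLinear (Fin n) F) (Cfsg.Geo.quadSimilarityGroup Q ⊓ Cfsg.Geo.specialLinear (Fin n) F) := by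
  obtain ⟨Q', hQf, hnd⟩ := CfsgLib.Classical.exists_quadOf hQ
  have h2 : (2 : F) ≠ 0 := by
    intro h
    have hc : ringChar F = 2 := CharP.ringChar_of_prime_eq_zero Nat.prime_two (by exact_mod_cast h)
    exact (Nat.not_even_iff_odd.2 hodd) (Nat.even_iff.2 (FiniteField.even_card_of_char_two hc))
  have hn' : 6 ≤ Fintype.card (Fin n) := by rwa [Fintype.card_fin]
  have hN : Module.finrank F (Fin n → F) = n := by simp
  refine ⟨lt_of_le_of_ne inf_le_right ?_, fun M hM hMK => ?_⟩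
  · intro he
    obtain ⟨a, ha⟩ : ∃ a, Q' a ≠ 0 := by
      by_contra hc
      push Not at hc
      have h0 : (Pi.single (⟨0, by omega⟩ : Fin n) (1 : F) : Fin n → F) = 0 := hnd.1 _ fun y => by
        simp [QuadraticMap.polarBilin_apply_apply, QuadraticMap.polar, hc]
      simp at h0
    have haa : QuadraticMap.polarBilin Q' a a ≠ 0 := by
      rw [CfsgLib.Classical.SimMax.polar_self']; exact mul_ne_zero h2 ha
    obtain ⟨b, hb, hb0, -⟩ := CfsgLib.Classical.SimMax.exists_singular_of_three (Q := Q') h2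
      (U := CfsgLib.Classical.SimMax.perp Q' ![a]) (by
        have := CfsgLib.Classical.SimMax.finrank_perp_ge Q' ![a]; omega)
    rw [CfsgLib.Classical.SimMax.mem_perp, Fin.forall_fin_one] at hb
    change QuadraticMap.polarBilin Q' a b = 0 at hb
    obtain ⟨y, hy⟩ : ∃ y, QuadraticMap.polarBilin Q' b y ≠ 0 := by
      by_contra hc'; push Not at hc'; exact hb0 (hnd.1 b hc')
    have h0 : CfsgLib.Classical.SimMax.bv Q' b ⬝ᵥ a = 0 := by
      rw [CfsgLib.Classical.SimMax.bv_dot, CfsgLib.Classical.SimMax.polar_symm]; exact hb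
    have hT := (he.symm.le (CfsgLib.Classical.trGL_mem_sl a _ h0)).1
    obtain ⟨c, hc⟩ := hT
    have hc1 := hc a
    rw [CfsgLib.Classical.trGL_mulVec, h0, zero_smul, add_zero, hQf] at hc1
    have hc' : (c : F) = 1 := mul_right_cancel₀ ha (hc1.symm.trans (one_mul _).symm)
    set x := y - (QuadraticMap.polarBilin Q' a y / QuadraticMap.polarBilin Q' a a) • a with hx
    have hxa : QuadraticMap.polarBilin Q' x a = 0 := by
      rw [CfsgLib.Classical.SimMax.polar_symm, hx, map_sub, map_smul, smul_eq_mul, div_mul_cancel₀ _ haa, sub_self]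
    have hbx : QuadraticMap.polarBilin Q' b x ≠ 0 := by
      rw [hx, map_sub, map_smul, CfsgLib.Classical.SimMax.polar_symm Q' b a, hb, smul_zero, sub_zero]; exact hy
    have h1 := hc x
    rw [CfsgLib.Classical.trGL_mulVec, CfsgLib.Classical.SimMax.bv_dot, hQf, hQf,
      CfsgLib.Classical.SimMax.map_add_smul, hxa, hc', one_mul, mul_zero, add_zero, add_eq_left] at h1
    exact mul_ne_zero (mul_ne_zero hbx hbx) ha h1
  · rcases eq_or_ne M (Geo.quadSimilarityGroup Q ⊓ Geo.specialLinear (Fin n) F) with h | h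
    · exact Or.inl h
    refine Or.inr (le_antisymm hMK ?_)
    obtain ⟨g, hg, hgH⟩ := SetLike.not_le_iff_exists.1 fun hle => h (le_antisymm hle hM)
    have hS : CfsgLib.Classical.SimMax.SiegMem Q' M := fun d u hd hu hdu => hM
      ⟨⟨1, fun v => by rw [hQf, hQf, CfsgLib.Classical.SimMax.sieg_isometry Q' hd hu hdu, Units.val_one, one_mul]⟩,
        CfsgLib.Classical.SimMax.sieg_mem_sl Q' hdu⟩
    have hgs : ¬ ∃ c : F, ∀ x y, QuadraticMap.polarBilin Q' (((g⁻¹ : GL (Fin n) F) : Matrix (Fin n) (Fin n) F).mulVec x)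
        (((g⁻¹ : GL (Fin n) F) : Matrix (Fin n) (Fin n) F).mulVec y) = c * QuadraticMap.polarBilin Q' x y := by
      rintro ⟨c, hc⟩
      have hc0 : c ≠ 0 := by
        rintro rfl
        have h0 : (Pi.single (⟨0, by omega⟩ : Fin n) (1 : F) : Fin n → F) = 0 := by
          refine hnd.1 _ fun y => ?_
          have := hc ((g : Matrix (Fin n) (Fin n) F).mulVec (Pi.single (⟨0, by omega⟩ : Fin n) (1 : F))) ((g : Matrix (Fin n) (Fin n) F).mulVec y)
          rwa [Matrix.mulVec_mulVec, Matrix.mulVec_mulVec, ← Units.val_mul, inv_mul_cancel, Units.val_one, Matrix.one_mulVec,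
            Matrix.one_mulVec, zero_mul] at this
        simp at h0
      refine hgH ⟨inv_inv g ▸ Subgroup.inv_mem _ (show g⁻¹ ∈ Geo.quadSimilarityGroup Q from
        ⟨Units.mk0 c hc0, fun v => ?_⟩), hMK hg⟩
      have := hc v v
      rw [CfsgLib.Classical.SimMax.polar_self', CfsgLib.Classical.SimMax.polar_self', mul_left_comm] at this
      rw [hQf, hQf]
      exact mul_left_cancel₀ h2 this
    obtain ⟨a, b, hab, ha, hb⟩ := CfsgLib.Classical.SimMax.exists_has hnd h2 (by omega) hS hg hgs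
    exact CfsgLib.Classical.SimMax.sl_le_of_has hnd h2 hn' hS hab ha hb

end CfsgLib.Classical.GeoMaxSmall
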