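import Cfsg.Agent.Lib.Classical.FieldExtUnitary.Matrix
import Cfsg.Agent.Lib.Classical.HermMax
import Cfsg.Agent.Lib.Classical.RootPairThree
import Cfsg.Agent.Lib.Classical.RootPairFour
import Cfsg.Agent.Lib.Classical.SubfieldMax.HermReduce
import Cfsg.Agent.Lib.Classical.SubfieldMax.Main
import Cfsg.Agent.Lib.Classical.SubfieldMax.Member
import Cfsg.Agent.Lib.Classical.SubfieldOrth.Six
import Cfsg.Agent.Lib.Classical.SubfieldOrth.Symp
import Cfsg.Agent.Lib.Classical.TensorMaxU.Matrix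
import Cfsg.Agent.Lib.Classical.UFrameMax.Main

/-!
# Maximal subgroups of geometric type in special unitary groups of small degree
-/

set_option autoImplicit false
open Cfsg

namespace CfsgLib.Classical.GeoMaxSmall.SU

/-- Stabilisers of totally singular subspaces. -/
theorem isMax_ts {F : Type*} [Field F] [Fintype F] (n q : ℕ) (hF : Fintype.card F = q ^ 2) (hn : 4 ≤ n) (W : Submodule F (Fin n → F)) (hW0 : W ≠ ⊥) (hW : Cfsg.Geo.IsTotallySingularFor (Cfsg.hermForm n F q) W) : Cfsg.Geo.IsMaximalIn (Cfsg.GU n F q ⊓ Cfsg.Geo.specialLinear (Fin n) F) (Cfsg.Geo.subspaceStabilizer W ⊓ (Cfsg.GU n F q ⊓ Cfsg.Geo.specialLinear (Fin n) F)) := by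
  obtain ⟨σ, hσ, hc⟩ := CfsgLib.Classical.exists_frob hF
  have h := CfsgLib.Classical.stdHerm_isHermitian hc n
  have hN := CfsgLib.Classical.stdHerm_sepRight (σ := σ) n
  have hW' : ∀ a ∈ W, ∀ b ∈ W, CfsgLib.Classical.stdHerm σ n a b = 0 := fun a ha b hb => by
    rw [← CfsgLib.Classical.hermForm_eq_stdHerm hσ]; exact hW b hb a ha
  refine CfsgLib.Classical.gu_isMaximalIn hσ _ (· ∈ CfsgLib.Classical.isomStab _ W)
    (CfsgLib.Classical.mem_stab_iff_isomStab W) ?_ fun M hM g hg hgW =>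
      h.top_of_stab_ts hN (by rw [Module.finrank_fin_fun]; omega) hW' hM hg hgW
  obtain ⟨w, hw, hw0⟩ := (Submodule.ne_bot_iff W).1 hW0
  obtain ⟨s, -, hs, hws⟩ := h.exists_partner (CfsgLib.Classical.nondegOn_iff.2 fun y _ hy =>
    hN y fun z => hy z trivial : CfsgLib.Classical.NondegOn _ (⊤ : Submodule F (Fin n → F))) trivial hw0 (hW' w hw w hw)
  have hs0 : s ≠ 0 := fun e => by simp [e] at hws
  obtain ⟨g, l, hgl⟩ := h.move_point hN (hW' w hw w hw) hs hw0 hs0
  refine ⟨g.1, MonoidHom.mem_ker.1 g.2, fun hg => ?_⟩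
  have h1 : g.1.1 w ∈ W := (CfsgLib.Classical.mem_isomStab.1 hg).le ⟨w, hw, rfl⟩
  have h2 := hW' w hw _ h1
  rw [hgl, map_smul, hws, smul_eq_mul, mul_one] at h2
  rw [h2, zero_smul] at hgl
  exact hw0 (g.1.1.injective (hgl.trans (map_zero _).symm))

/-- Stabilisers of nondegenerate subspaces. -/
theorem isMax_nondeg {F : Type*} [Field F] [Fintype F] (n q : ℕ) (hF : Fintype.card F = q ^ 2) (hn : 4 ≤ n) (W : Submodule F (Fin n → F)) (hW0 : W ≠ ⊥) (hW : Cfsg.Geo.IsNondegenerateOn (Cfsg.hermForm n F q) W) (hdim : 2 * Module.finrank F W < n) : Cfsg.Geo.IsMaximalIn (Cfsg.GU n F q ⊓ Cfsg.Geo.specialLinear (Fin n) F) (Cfsg.Geo.subspaceStabilizer W ⊓ (Cfsg.GU n F q ⊓ Cfsg.Geo.specialLinear (Fin n) F)) := by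
  obtain ⟨σ, hσ, hc⟩ := CfsgLib.Classical.exists_frob hF
  have h := CfsgLib.Classical.stdHerm_isHermitian hc n
  have hN := CfsgLib.Classical.stdHerm_sepRight (σ := σ) n
  have hNW : CfsgLib.Classical.NondegOn (CfsgLib.Classical.stdHerm σ n) W := by
    rw [CfsgLib.Classical.nondegOn_iff]
    intro x hx hx'
    by_contra hne
    obtain ⟨y, hy, hyx⟩ := (hW x hx hne).1
    exact hyx (by rw [CfsgLib.Classical.hermForm_eq_stdHerm hσ]; exact h.isRefl _ _ (hx' y hy))
  have hfr := hNW.finrank_perp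
  have hn' : Module.finrank F (Fin n → F) = n := Module.finrank_fin_fun F
  refine CfsgLib.Classical.gu_isMaximalIn hσ _ (· ∈ CfsgLib.Classical.isomStab _ W)
    (CfsgLib.Classical.mem_stab_iff_isomStab W) ?_ fun M hM g hg hgW =>
      h.top_of_stab_nondeg_herm hN (by omega) hNW (by omega) (by omega) hM hg hgW
  have hU := CfsgLib.Classical.nondegOn_perp hN hNW
  obtain ⟨e, f, he, -, hee, -, hef⟩ := h.exists_hyp_in hU (by omega)
  have hpos : 0 < Module.finrank F W := by
    refine Nat.pos_of_ne_zero fun h0 => hW0 ?_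
    rwa [Submodule.finrank_eq_zero] at h0
  obtain ⟨w, hw, hww⟩ := h.exists_unit_in hNW hpos (map_one σ)
  obtain ⟨u, hu, huu⟩ := h.exists_unit_in hU (by omega) (a := -1) (by rw [map_neg, map_one])
  have he0 : e ≠ 0 := fun e' => by simp [e'] at hef
  have hwu : w + u ∉ CfsgLib.Classical.perp (CfsgLib.Classical.stdHerm σ n) W := fun hm => by
    have h1 := CfsgLib.Classical.mem_perp.1 hm w hw
    rw [map_add, hww, CfsgLib.Classical.mem_perp.1 hu w hw, add_zero] at h1
    exact one_ne_zero h1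
  have hwu0 : w + u ≠ 0 := fun e' => hwu (by rw [e']; exact zero_mem _)
  have hwuu : CfsgLib.Classical.stdHerm σ n (w + u) (w + u) = 0 := by
    rw [h.add_self, hww, huu, CfsgLib.Classical.mem_perp.1 hu w hw]; simp
  obtain ⟨g, l, hgl⟩ := h.move_point hN hee hwuu he0 hwu0
  refine ⟨g.1, MonoidHom.mem_ker.1 g.2, fun hg => hwu ?_⟩
  have h2 : g.1.1 e ∈ CfsgLib.Classical.perp (CfsgLib.Classical.stdHerm σ n) W := by
    have h3 := CfsgLib.Classical.map_perp g.1.2 W
    rw [CfsgLib.Classical.mem_isomStab.1 hg] at h3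
    exact h3.le ⟨e, he, rfl⟩
  rw [hgl] at h2
  have hl : l ≠ 0 := fun e' => by
    rw [e', zero_smul] at hgl
    exact he0 (g.1.1.injective (hgl.trans (map_zero _).symm))
  exact (Submodule.smul_mem_iff _ hl).1 h2

/-- Stabilisers of isotropic pairs. -/
theorem isMax_isoPair {F : Type*} [Field F] [Fintype F] (n q : ℕ) (hF : Fintype.card F = q ^ 2) (hn : 8 ≤ n) (k : ℕ) (hk : 2 * k = n) (D : Fin 2 → Submodule F (Fin n → F)) (hD : Cfsg.Geo.IsMDecomposition k D) (hts : ∀ i, Cfsg.Geo.IsTotallySingularFor (Cfsg.hermForm n F q) (D i)) : Cfsg.Geo.IsMaximalIn (Cfsg.GU n F q ⊓ Cfsg.Geo.specialLinear (Fin n) F) (Cfsg.Geo.decompositionStabilizer D ⊓ (Cfsg.GU n F q ⊓ Cfsg.Geo.specialLinear (Fin n) F)) := by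
  classical
  obtain ⟨σ, hσ, hc⟩ := CfsgLib.Classical.exists_frob hF
  have hh := CfsgLib.Classical.stdHerm_isHermitian hc n
  have hN := CfsgLib.Classical.stdHerm_sepRight (σ := σ) n
  set B := CfsgLib.Classical.stdHerm σ n with hBdef
  have h : CfsgLib.Classical.IsEpsForm B (-1 : F) := by
    refine ⟨hc.invol, by ring, by simp, fun x y => by rw [hh.symm x y]; ring, hN, ?_, ?_⟩
    · obtain ⟨μ, hμ⟩ := hc.exists_trace_eq (a := (1 : F)) (map_one σ)
      exact ⟨μ, by rw [hμ]; exact one_ne_zero⟩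
    · obtain ⟨c, hc0, hc'⟩ := hc.exists_trace_zero
      exact ⟨c, hc0, by linear_combination hc'⟩
  have hts' : ∀ i, ∀ x ∈ D i, ∀ y ∈ D i, B x y = 0 := fun i x hx y hy => by
    rw [hBdef, ← CfsgLib.Classical.hermForm_eq_stdHerm hσ]; exact hts i y hy x hx
  have hP : CfsgLib.Classical.IsoPair B (D 0) (D 1) :=
    ⟨hts' 0, hts' 1,
      eq_top_iff.2 (hD.iSup_eq_top ▸ iSup_le (Fin.forall_fin_two.2 ⟨le_sup_left, le_sup_right⟩)),
      disjoint_iff.1 (hD.indep.pairwiseDisjoint (by decide : (0 : Fin 2) ≠ 1)),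
      (hD.finrank_eq 0).trans (hD.finrank_eq 1).symm⟩
  have hk4 : 4 ≤ Module.finrank F (D 0) := by rw [hD.finrank_eq]; omega
  have hS : ∀ (g : CfsgLib.Classical.isomGroup B) a b c, CfsgLib.Classical.IsRt (-1 : F) g a b c → B b b = 0 →
      g ∈ CfsgLib.Classical.sIsom B := fun g a b c hg hb =>
    MonoidHom.mem_ker.2 (hg.det_eq_one hb (h.orth_symm' hg.2.1))
  refine CfsgLib.Classical.gu_isMaximalIn hσ _ (fun g : CfsgLib.Classical.isomGroup B =>
      (((D 0).map g.1.toLinearMap = D 0 ∧ (D 1).map g.1.toLinearMap = D 1) ∨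
        ((D 0).map g.1.toLinearMap = D 1 ∧ (D 1).map g.1.toLinearMap = D 0))) (fun g => ?_) ?_ ?_
  · have e : Matrix.toLin' (CfsgLib.Classical.linToGL g.1 : Matrix (Fin n) (Fin n) F) = g.1.toLinearMap :=
      LinearMap.ext fun x => by rw [Matrix.toLin'_apply]; exact CfsgLib.Classical.linToGL_mulVec g.1 x
    change (∃ τ : Equiv.Perm (Fin 2), ∀ i,
      (D i).map (Matrix.toLin' (CfsgLib.Classical.linToGL g.1 : Matrix (Fin n) (Fin n) F)) = D (τ i)) ↔ _
    rw [e]
    exact CfsgLib.Classical.perm_two_iff D g.1.toLinearMap hP.inf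
  · obtain ⟨g, hg, hgP⟩ := h.exists_not_perm hP (by omega) hS
    exact ⟨g, MonoidHom.mem_ker.1 hg, hgP⟩
  · intro M hM g hg hgP
    have hax := h.pair_axes_four rfl hP hk4 hS (M := M) (fun t ht hp => hM t (MonoidHom.mem_ker.1 ht) hp) hg hgP
    refine hh.sIsom_le_of_axes hN (by rw [Module.finrank_fin_fun]; omega) fun v _ t c ht => hax v c t
      ⟨ht.1, by simp, ?_, fun x => ?_⟩
    · simp only [map_zero, add_zero, neg_one_mul, sub_neg_eq_add]
      linear_combination ht.2.1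
    · rw [ht.2.2]; simp

/-- Stabilisers of pairs of isotropic planes in six dimensions. -/
theorem isMax_isoPair_three {F : Type*} [Field F] [Fintype F] (n q : ℕ) (hF : Fintype.card F = q ^ 2) (hn : n = 6) (k : ℕ) (hk : 2 * k = n) (D : Fin 2 → Submodule F (Fin n → F)) (hD : Cfsg.Geo.IsMDecomposition k D) (hts : ∀ i, Cfsg.Geo.IsTotallySingularFor (Cfsg.hermForm n F q) (D i)) : Cfsg.Geo.IsMaximalIn (Cfsg.GU n F q ⊓ Cfsg.Geo.specialLinear (Fin n) F) (Cfsg.Geo.decompositionStabilizer D ⊓ (Cfsg.GU n F q ⊓ Cfsg.Geo.specialLinear (Fin n) F)) := by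
  classical
  obtain ⟨σ, hσ, hc⟩ := CfsgLib.Classical.exists_frob hF
  have hh := CfsgLib.Classical.stdHerm_isHermitian hc n
  have hN := CfsgLib.Classical.stdHerm_sepRight (σ := σ) n
  set B := CfsgLib.Classical.stdHerm σ n with hBdef
  have h : CfsgLib.Classical.IsEpsForm B (-1 : F) := by
    refine ⟨hc.invol, by ring, by simp, fun x y => by rw [hh.symm x y]; ring, hN, ?_, ?_⟩
    · obtain ⟨μ, hμ⟩ := hc.exists_trace_eq (a := (1 : F)) (map_one σ)
      exact ⟨μ, by rw [hμ]; exact one_ne_zero⟩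
    · obtain ⟨c, hc0, hc'⟩ := hc.exists_trace_zero
      exact ⟨c, hc0, by linear_combination hc'⟩
  have hts' : ∀ i, ∀ x ∈ D i, ∀ y ∈ D i, B x y = 0 := fun i x hx y hy => by
    rw [hBdef, ← CfsgLib.Classical.hermForm_eq_stdHerm hσ]; exact hts i y hy x hx
  have hP : CfsgLib.Classical.IsoPair B (D 0) (D 1) :=
    ⟨hts' 0, hts' 1,
      eq_top_iff.2 (hD.iSup_eq_top ▸ iSup_le (Fin.forall_fin_two.2 ⟨le_sup_left, le_sup_right⟩)),
      disjoint_iff.1 (hD.indep.pairwiseDisjoint (by decide : (0 : Fin 2) ≠ 1)),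
      (hD.finrank_eq 0).trans (hD.finrank_eq 1).symm⟩
  have hk5 : Module.finrank F (D 0) = 3 := by rw [hD.finrank_eq]; omega
  have hS : ∀ (g : CfsgLib.Classical.isomGroup B) a b c, CfsgLib.Classical.IsRt (-1 : F) g a b c → B b b = 0 →
      g ∈ CfsgLib.Classical.sIsom B := fun g a b c hg hb =>
    MonoidHom.mem_ker.2 (hg.det_eq_one hb (h.orth_symm' hg.2.1))
  refine CfsgLib.Classical.gu_isMaximalIn hσ _ (fun g : CfsgLib.Classical.isomGroup B =>
      (((D 0).map g.1.toLinearMap = D 0 ∧ (D 1).map g.1.toLinearMap = D 1) ∨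
        ((D 0).map g.1.toLinearMap = D 1 ∧ (D 1).map g.1.toLinearMap = D 0))) (fun g => ?_) ?_ ?_
  · have e : Matrix.toLin' (CfsgLib.Classical.linToGL g.1 : Matrix (Fin n) (Fin n) F) = g.1.toLinearMap :=
      LinearMap.ext fun x => by rw [Matrix.toLin'_apply]; exact CfsgLib.Classical.linToGL_mulVec g.1 x
    change (∃ τ : Equiv.Perm (Fin 2), ∀ i,
      (D i).map (Matrix.toLin' (CfsgLib.Classical.linToGL g.1 : Matrix (Fin n) (Fin n) F)) = D (τ i)) ↔ _
    rw [e]
    exact CfsgLib.Classical.perm_two_iff D g.1.toLinearMap hP.inf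
  · obtain ⟨g, hg, hgP⟩ := h.exists_not_perm hP (by omega) hS
    exact ⟨g, MonoidHom.mem_ker.1 hg, hgP⟩
  · intro M hM g hg hgP
    have hax := h.pair_axes_three rfl hP hk5 hS (M := M) (fun t ht hp => hM t (MonoidHom.mem_ker.1 ht) hp) hg hgP
    refine hh.sIsom_le_of_axes hN (by rw [Module.finrank_fin_fun]; omega) fun v _ t c ht => hax v c t
      ⟨ht.1, by simp, ?_, fun x => ?_⟩
    · simp only [map_zero, add_zero, neg_one_mul, sub_neg_eq_add]
      linear_combination ht.2.1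
    · rw [ht.2.2]; simp

/-- Subfield groups of odd prime index. -/
theorem isMax_subfield_odd {F : Type*} [Field F] [Fintype F] (n q : ℕ) (hF : Fintype.card F = q ^ 2) (hn : 6 ≤ n) (F₀ : Subfield F) (r : ℕ) (hr : r.Prime) (hro : Odd r) (hcard : Fintype.card F = Nat.card F₀ ^ r) (P : Matrix.GeneralLinearGroup (Fin n) F) (hP : Cfsg.Geo.IsFormRationalStructure (Cfsg.hermForm n F q) F₀ 1 P) : Cfsg.Geo.IsMaximalIn (Cfsg.GU n F q ⊓ Cfsg.Geo.specialLinear (Fin n) F) (Cfsg.Geo.subfieldSubgroup F₀ P ⊓ (Cfsg.GU n F q ⊓ Cfsg.Geo.specialLinear (Fin n) F)) := by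
  classical
  obtain ⟨σ, hσ, hc⟩ := CfsgLib.Classical.exists_frob hF
  have hr2 : r ≠ 2 := by rintro rfl; exact absurd hro (by decide)
  have hr3 : 3 ≤ r := by have := hr.two_le; omega
  -- the fixed elements of `σ`
  have hfixcard : Nat.card {x : F // σ x = x} = q := by
    have h1 := (CfsgLib.Classical.frob_cards hF hσ hc).1
    have h2 : 1 ≤ q := by have := CfsgLib.Classical.two_le_of_card_sq hF; omega
    let K : Subfield F := σ.eqLocusField (RingHom.id F)
    have e1 : Nat.card {x : F // σ x = x} = Nat.card K := Nat.card_congr (Equiv.subtypeEquivRight fun x => Iff.rfl)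
    haveI := Fintype.ofFinite K
    have e2 : Nat.card Kˣ = Nat.card (CfsgLib.Classical.fixedUnits σ) := by
      refine Nat.card_congr
        { toFun := fun u => ⟨Units.map (K.subtype : K →* F) u, (u : K).2⟩
          invFun := fun u => ⟨⟨(u.1 : F), u.2⟩, ⟨((u.1⁻¹ : Fˣ) : F), (inv_mem u.2 : u.1⁻¹ ∈ CfsgLib.Classical.fixedUnits σ)⟩,
            Subtype.ext (by simp), Subtype.ext (by simp)⟩
          left_inv := fun u => Units.ext (Subtype.ext rfl)
          right_inv := fun u => Subtype.ext (Units.ext rfl) }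
    rw [Nat.card_units, h1] at e2
    have := Nat.card_pos (α := K)
    omega
  obtain ⟨lam, hlamfix, hlam⟩ : ∃ lam : F, σ lam = lam ∧ lam ∉ F₀ := by
    by_contra h
    push Not at h
    have h1 : q ≤ Nat.card F₀ := hfixcard ▸ Nat.card_le_card_of_injective
      (fun x : {x : F // σ x = x} => (⟨x.1, h x.1 x.2⟩ : F₀)) (fun a b e => Subtype.ext (congrArg (fun z : F₀ => (z : F)) e))
    have h2 : q ^ r ≤ q ^ 2 := hF ▸ hcard ▸ Nat.pow_le_pow_left h1 r
    have h3 := (Nat.pow_le_pow_iff_right (CfsgLib.Classical.two_le_of_card_sq hF)).1 h2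
    omega
  have hstable : ∀ c ∈ F₀, σ c ∈ F₀ := fun c hc' => by rw [hσ]; exact pow_mem hc' q
  have htw : ∃ c ∈ F₀, σ c ≠ c := by
    by_contra h
    push Not at h
    have hall : ∀ x : F, σ x = x := CfsgLib.Classical.SubfieldMax.eq_top_of_prime_degree hr hcard
      (σ.eqLocus (RingHom.id F)) (fun c hc' => h c hc') (μ := lam) hlamfix hlam
    exact hc.ne_id (RingHom.ext hall)
  obtain ⟨d, hd, hd'⟩ := htw
  let B := CfsgLib.Classical.stdHerm σ n
  let Pm : Matrix (Fin n) (Fin n) F := P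
  let Pi' : Matrix (Fin n) (Fin n) F := ((P⁻¹ : GL (Fin n) F) : Matrix _ _ F)
  have hPP : ∀ x, Pm.mulVec (Pi'.mulVec x) = x := fun x => by
    rw [Matrix.mulVec_mulVec, ← Units.val_mul, mul_inv_cancel, Units.val_one, Matrix.one_mulVec]
  have hPP' : ∀ x, Pi'.mulVec (Pm.mulVec x) = x := fun x => by
    rw [Matrix.mulVec_mulVec, ← Units.val_mul, inv_mul_cancel, Units.val_one, Matrix.one_mulVec]
  let V₀ : Submodule F₀ (Fin n → F) :=
    { carrier := {x | ∀ i, Pi'.mulVec x i ∈ F₀}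
      add_mem' := fun {a b} ha hb i => by rw [Matrix.mulVec_add]; exact add_mem (ha i) (hb i)
      zero_mem' := fun i => by rw [Matrix.mulVec_zero]; exact zero_mem F₀
      smul_mem' := fun c a ha i => by
        rw [CfsgLib.Classical.SubfieldMax.coe_smul_eq, Matrix.mulVec_smul]; exact mul_mem c.2 (ha i) }
  have hcol : ∀ j, Pm.mulVec (Pi.single j 1) ∈ V₀ := fun j i => by
    rw [hPP', Pi.single_apply]; split_ifs <;> [exact one_mem F₀; exact zero_mem F₀]
  have hR : CfsgLib.Classical.SubfieldMax.IsHFrame B V₀ (d - σ d) := by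
    refine ⟨CfsgLib.Classical.stdHerm_isHermitian hc n, CfsgLib.Classical.stdHerm_sepRight n, hstable, ⟨d, hd, hd'⟩,
      sub_mem hd (hstable d hd), sub_ne_zero.2 (Ne.symm hd'), by rw [map_sub, hc.invol, neg_sub], fun u hu v hv => ?_,
      eq_top_iff.2 fun x _ => ?_⟩
    · have h := hP _ _ hv hu
      rw [one_mul] at h
      rwa [hPP, hPP, CfsgLib.Classical.hermForm_eq_stdHerm hσ] at h
    · rw [show x = ∑ j, Pi'.mulVec x j • Pm.mulVec (Pi.single j 1) by
        rw [← (Finset.sum_congr rfl fun j _ => Matrix.mulVec_smul Pm (Pi'.mulVec x j) (Pi.single j 1)),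
          ← Matrix.mulVec_sum]
        conv_lhs => rw [← hPP x]
        congr 1
        ext i; simp [Finset.sum_apply, Pi.single_apply]]
      exact Submodule.sum_mem _ fun j _ => Submodule.smul_mem _ _ (Submodule.subset_span (hcol j))
  have hdim : 6 ≤ Module.finrank F₀ V₀ :=
    le_trans (by rw [Module.finrank_fin_fun]; omega) hR.finrank_le
  have hP' : ∀ g : CfsgLib.Classical.isomGroup B, CfsgLib.Classical.linToGL g.1 ∈ Geo.subfieldSubgroup F₀ P ↔
      ∃ s : F, s ≠ 0 ∧ ∀ f ∈ V₀, s • g.1 f ∈ V₀ := by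
    intro g
    rw [CfsgLib.Classical.SubfieldMax.mem_subfieldSubgroup_iff]
    refine exists_congr fun c => and_congr_right fun _ => ⟨fun h f hf i => ?_, fun h a b => ?_⟩
    · have e : Pi'.mulVec (c • g.1 f) =
          (c • ((P⁻¹ * CfsgLib.Classical.linToGL g.1 * P : GL (Fin n) F) : Matrix _ _ F)).mulVec (Pi'.mulVec f) := by
        rw [Matrix.mulVec_smul, Matrix.smul_mulVec, Units.val_mul, Units.val_mul, ← Matrix.mulVec_mulVec,
          ← Matrix.mulVec_mulVec, show (P : Matrix _ _ F).mulVec (Pi'.mulVec f) = f from hPP f,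
          CfsgLib.Classical.linToGL_mulVec]
      rw [e]
      simp only [Matrix.mulVec, dotProduct]
      refine Subfield.sum_mem _ fun j _ => mul_mem ?_ (hf j)
      exact h i j
    · have := h _ (hcol b) a
      rw [Matrix.mulVec_smul, Pi.smul_apply, ← CfsgLib.Classical.linToGL_mulVec, Matrix.mulVec_mulVec,
        Matrix.mulVec_mulVec, Matrix.mulVec_single_one] at this
      rw [Units.val_mul, Units.val_mul]
      exact this
  refine CfsgLib.Classical.gu_isMaximalIn hσ _ (fun g => ∃ s : F, s ≠ 0 ∧ ∀ f ∈ V₀, s • g.1 f ∈ V₀) hP' ?_ ?_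
  · obtain ⟨u, -, hu0, huu⟩ := hR.exists_iso_in ⊤ (by rw [finrank_top]; omega)
    obtain ⟨v, hvv, huv, -⟩ := hR.exists_iso_partner huu [] (by simp) (by simpa using hu0)
    have hvu : B (v : _ → F) (u : _ → F) = 1 := by rw [← hR.symm, huv, map_one]
    refine ⟨hR.hTv (u : _ → F) lam, hR.herm.idet_uTv (hR.hTv_isUTv huu hlamfix), fun ⟨s, hs, hsV⟩ => ?_⟩
    have h1 := hR.form _ v.2 _ (hsV _ u.2)
    rw [hR.hTv_apply huu hlamfix, huu, mul_zero, zero_smul, add_zero, map_smul, hvu, smul_eq_mul, mul_one] at h1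
    have h2 := hR.form _ v.2 _ (hsV _ v.2)
    rw [hR.hTv_apply huu hlamfix, huv, mul_one, map_smul, map_add, map_smul, hvv, hvu, zero_add, smul_eq_mul,
      smul_eq_mul, mul_one] at h2
    have h3 := div_mem h2 (mul_mem h1 hR.eps_mem)
    refine hlam ?_
    rwa [← mul_assoc, mul_div_cancel_left₀ _ (mul_ne_zero hs hR.eps_ne)] at h3
  · intro M hM g hg hgP
    refine CfsgLib.Classical.SubfieldMax.herm_top (hR := hR) (M := M) ?_ hdim hr hcard
      (by rw [Module.finrank_fin_fun]; omega) hg hgP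
    intro u hu huu t ht htf
    refine hM _ (hR.herm.idet_uTv (hR.hTv_isUTv huu htf)) ⟨1, one_ne_zero, fun f hf => ?_⟩
    rw [one_smul, hR.hTv_apply huu htf]
    exact add_mem hf (CfsgLib.Classical.SubfieldMax.smul_mem' (mul_mem (mul_mem hR.eps_mem ht) (hR.form u hu f hf)) hu)

/-- Subfield groups of orthogonal type. -/
theorem isMax_subfield_orth {F : Type*} [Field F] [Fintype F] (n q : ℕ) (hF : Fintype.card F = q ^ 2) (hn : 6 ≤ n) (hodd : Odd q) (F₀ : Subfield F) (hcard : Fintype.card F = Nat.card F₀ ^ 2) (P : Matrix.GeneralLinearGroup (Fin n) F) (hP : Cfsg.Geo.IsFormRationalStructure (Cfsg.hermForm n F q) F₀ 1 P) : Cfsg.Geo.IsMaximalIn (Cfsg.GU n F q ⊓ Cfsg.Geo.specialLinear (Fin n) F) (Cfsg.Geo.subfieldSubgroup F₀ P ⊓ (Cfsg.GU n F q ⊓ Cfsg.Geo.specialLinear (Fin n) F)) := by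
  classical
  haveI hnz : NeZero n := ⟨by omega⟩
  obtain ⟨σ, hσ, hc⟩ := CfsgLib.Classical.exists_frob hF
  -- the subfield is the fixed field
  have hq : Nat.card F₀ = q := by
    have h1 : Nat.card F₀ ^ 2 = q ^ 2 := hcard ▸ hF
    exact Nat.pow_left_injective (by norm_num) h1
  haveI := Fintype.ofFinite F₀
  have hfix₁ : ∀ c ∈ F₀, σ c = c := fun c hc' => by
    have h := FiniteField.pow_card (⟨c, hc'⟩ : F₀)
    rw [← Nat.card_eq_fintype_card, hq] at h
    rw [hσ]
    exact congrArg Subtype.val h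
  have hfix : ∀ c, c ∈ F₀ ↔ σ c = c := by
    refine fun c => ⟨hfix₁ c, fun hc' => ?_⟩
    by_contra hcn
    refine hc.ne_id (RingHom.ext fun x => ?_)
    exact CfsgLib.Classical.SubfieldMax.eq_top_of_prime_degree Nat.prime_two hcard
      (σ.eqLocus (RingHom.id F)) (fun c hc' => hfix₁ c hc') (μ := c) hc' hcn x
  have h2 : (2 : F) ≠ 0 := by
    have hodd' : Fintype.card F % 2 = 1 := by rw [hF]; exact Nat.odd_iff.1 hodd.pow
    intro h
    have hch : ringChar F = 2 := by
      have hdvd : ringChar F ∣ 2 := ringChar.dvd (R := F) (x := 2) (by exact_mod_cast h)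
      exact (Nat.prime_two.eq_one_or_self_of_dvd _ hdvd).resolve_left CharP.ringChar_ne_one
    have := FiniteField.even_card_of_char_two hch
    omega
  obtain ⟨d, hd⟩ : ∃ d, σ d ≠ d := by
    by_contra h
    push Not at h
    exact hc.ne_id (RingHom.ext h)
  let B := CfsgLib.Classical.stdHerm σ n
  let Pm : Matrix (Fin n) (Fin n) F := P
  let Pi' : Matrix (Fin n) (Fin n) F := ((P⁻¹ : GL (Fin n) F) : Matrix _ _ F)
  have hPP : ∀ x, Pm.mulVec (Pi'.mulVec x) = x := fun x => by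
    rw [Matrix.mulVec_mulVec, ← Units.val_mul, mul_inv_cancel, Units.val_one, Matrix.one_mulVec]
  have hPP' : ∀ x, Pi'.mulVec (Pm.mulVec x) = x := fun x => by
    rw [Matrix.mulVec_mulVec, ← Units.val_mul, inv_mul_cancel, Units.val_one, Matrix.one_mulVec]
  let V₀ : Submodule F₀ (Fin n → F) :=
    { carrier := {x | ∀ i, Pi'.mulVec x i ∈ F₀}
      add_mem' := fun {a b} ha hb i => by rw [Matrix.mulVec_add]; exact add_mem (ha i) (hb i)
      zero_mem' := fun i => by rw [Matrix.mulVec_zero]; exact zero_mem F₀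
      smul_mem' := fun c a ha i => by
        rw [CfsgLib.Classical.SubfieldMax.coe_smul_eq, Matrix.mulVec_smul]; exact mul_mem c.2 (ha i) }
  have hcol : ∀ j, Pm.mulVec (Pi.single j 1) ∈ V₀ := fun j i => by
    rw [hPP', Pi.single_apply]; split_ifs <;> [exact one_mem F₀; exact zero_mem F₀]
  have hR : CfsgLib.Classical.SubfieldOrth.IsOFrame B V₀ (d - σ d) := by
    refine ⟨CfsgLib.Classical.stdHerm_isHermitian hc n, CfsgLib.Classical.stdHerm_sepRight n, hfix, h2,
      sub_ne_zero.2 (Ne.symm hd), by rw [map_sub, hc.invol, neg_sub], fun u hu v hv => ?_,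
      eq_top_iff.2 fun x _ => ?_⟩
    · have h := hP _ _ hv hu
      rw [one_mul] at h
      rwa [hPP, hPP, CfsgLib.Classical.hermForm_eq_stdHerm hσ] at h
    · rw [show x = ∑ j, Pi'.mulVec x j • Pm.mulVec (Pi.single j 1) by
        rw [← (Finset.sum_congr rfl fun j _ => Matrix.mulVec_smul Pm (Pi'.mulVec x j) (Pi.single j 1)),
          ← Matrix.mulVec_sum]
        conv_lhs => rw [← hPP x]
        congr 1
        ext i; simp [Finset.sum_apply, Pi.single_apply]]
      exact Submodule.sum_mem _ fun j _ => Submodule.smul_mem _ _ (Submodule.subset_span (hcol j))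
  have hdim : 6 ≤ Module.finrank F₀ V₀ :=
    le_trans (by rw [Module.finrank_fin_fun]; omega) hR.finrank_le
  have hP' : ∀ g : CfsgLib.Classical.isomGroup B, CfsgLib.Classical.linToGL g.1 ∈ Geo.subfieldSubgroup F₀ P ↔
      ∃ s : F, s ≠ 0 ∧ ∀ f ∈ V₀, s • g.1 f ∈ V₀ := by
    intro g
    rw [CfsgLib.Classical.SubfieldMax.mem_subfieldSubgroup_iff]
    refine exists_congr fun c => and_congr_right fun _ => ⟨fun h f hf i => ?_, fun h a b => ?_⟩
    · have e : Pi'.mulVec (c • g.1 f) =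
          (c • ((P⁻¹ * CfsgLib.Classical.linToGL g.1 * P : GL (Fin n) F) : Matrix _ _ F)).mulVec (Pi'.mulVec f) := by
        rw [Matrix.mulVec_smul, Matrix.smul_mulVec, Units.val_mul, Units.val_mul, ← Matrix.mulVec_mulVec,
          ← Matrix.mulVec_mulVec, show (P : Matrix _ _ F).mulVec (Pi'.mulVec f) = f from hPP f,
          CfsgLib.Classical.linToGL_mulVec]
      rw [e]
      simp only [Matrix.mulVec, dotProduct]
      refine Subfield.sum_mem _ fun j _ => mul_mem ?_ (hf j)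
      exact h i j
    · have := h _ (hcol b) a
      rw [Matrix.mulVec_smul, Pi.smul_apply, ← CfsgLib.Classical.linToGL_mulVec, Matrix.mulVec_mulVec,
        Matrix.mulVec_mulVec, Matrix.mulVec_single_one] at this
      rw [Units.val_mul, Units.val_mul]
      exact this
  have hF2 : Module.finrank F₀ F = 2 := by
    have h := Module.natCard_eq_pow_finrank (K := F₀) (V := F)
    rw [Nat.card_eq_fintype_card, hcard] at h
    exact (Nat.pow_right_injective Finite.one_lt_card h).symm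
  obtain ⟨μ, hμ⟩ : ∃ μ, μ ∉ F₀ := ⟨d, fun h => hd ((hfix d).1 h)⟩
  refine CfsgLib.Classical.gu_isMaximalIn hσ _ (fun g => ∃ s : F, s ≠ 0 ∧ ∀ f ∈ V₀, s • g.1 f ∈ V₀) hP' ?_ ?_
  · obtain ⟨u, hu0, huu, -⟩ := hR.exists_iso_outside [] ⊥ (by simp; omega) (by simp; omega)
    have hu0' : u ≠ 0 := by simpa using hu0
    obtain ⟨v, hvv, huv, hvu, -⟩ := hR.exists_iso_partner huu [] (by simp; omega) (by simpa using hu0')
    obtain ⟨t, ht⟩ := hR.herm.exists_uTv hR.nondeg (v := (u : _ → F)) (c := d - σ d) huu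
      (by rw [map_sub, hc.invol]; ring)
    refine ⟨t, hR.herm.idet_uTv ht, fun ⟨s, hs, hsV⟩ => ?_⟩
    have h1 := hR.form _ v.2 _ (hsV _ u.2)
    rw [ht.2.2, huu, mul_zero, zero_smul, add_zero, map_smul, hvu, smul_eq_mul, mul_one] at h1
    have h2' := hR.form _ v.2 _ (hsV _ v.2)
    rw [ht.2.2, huv, mul_one, map_smul, map_add, map_smul, hvv, hvu, zero_add, smul_eq_mul,
      smul_eq_mul, mul_one] at h2'
    have h3 := div_mem h2' h1
    rw [mul_div_cancel_left₀ _ hs] at h3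
    have e := (hfix _).1 h3
    rw [hR.eps_tr] at e
    have : (2 : F) * (d - σ d) = 0 := by linear_combination -e
    exact hR.eps_ne ((mul_eq_zero.1 this).resolve_left h2)
  · intro M hM g hg hgP
    refine CfsgLib.Classical.SubfieldOrth.orth_top_six (M := M) hR (fun g' hg' hg'V => ?_) hdim hF2
      (by rw [Module.finrank_fin_fun]; omega) hg hgP
    exact hM g' hg' ⟨1, one_ne_zero, fun f hf => by rw [one_smul]; exact hg'V f hf⟩

/-- Subfield groups of symplectic type. -/
theorem isMax_subfield_symp {F : Type*} [Field F] [Fintype F] (n q : ℕ) (hF : Fintype.card F = q ^ 2) (hn : 4 ≤ n) (heven : Even n) (F₀ : Subfield F) (hcard : Fintype.card F = Nat.card F₀ ^ 2) (ζ : F) (hζ0 : ζ ≠ 0) (hζ : ζ + ζ ^ q = 0) (P : Matrix.GeneralLinearGroup (Fin n) F) (hP : Cfsg.Geo.IsFormRationalStructure (Cfsg.hermForm n F q) F₀ ζ P) (halt : ∀ u : Fin n → F, (∀ i, u i ∈ F₀) → Cfsg.hermForm n F q (Matrix.mulVec (P : Matrix (Fin n) (Fin n) F) u) (Matrix.mulVec (P : Matrix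 (Fin n) (Fin n) F) u) = 0) : Cfsg.Geo.IsMaximalIn (Cfsg.GU n F q ⊓ Cfsg.Geo.specialLinear (Fin n) F) (Cfsg.Geo.subfieldSubgroup F₀ P ⊓ (Cfsg.GU n F q ⊓ Cfsg.Geo.specialLinear (Fin n) F)) := by
  classical
  obtain ⟨σ, hσ, hc⟩ := CfsgLib.Classical.exists_frob hF
  -- the subfield is the fixed field
  have hq : Nat.card F₀ = q := by
    have h1 : Nat.card F₀ ^ 2 = q ^ 2 := hcard ▸ hF
    exact Nat.pow_left_injective (by norm_num) h1
  haveI := Fintype.ofFinite F₀
  have hfix₁ : ∀ c ∈ F₀, σ c = c := fun c hc' => by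
    have h := FiniteField.pow_card (⟨c, hc'⟩ : F₀)
    rw [← Nat.card_eq_fintype_card, hq] at h
    rw [hσ]
    exact congrArg Subtype.val h
  have hfix : ∀ c, c ∈ F₀ ↔ σ c = c := by
    refine fun c => ⟨hfix₁ c, fun hc' => ?_⟩
    by_contra hcn
    refine hc.ne_id (RingHom.ext fun x => ?_)
    exact CfsgLib.Classical.SubfieldMax.eq_top_of_prime_degree Nat.prime_two hcard
      (σ.eqLocus (RingHom.id F)) (fun c hc' => hfix₁ c hc') (μ := c) hc' hcn x
  obtain ⟨d, hd⟩ : ∃ d, σ d ≠ d := by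
    by_contra h
    push Not at h
    exact hc.ne_id (RingHom.ext h)
  let B := CfsgLib.Classical.stdHerm σ n
  let Pm : Matrix (Fin n) (Fin n) F := P
  let Pi' : Matrix (Fin n) (Fin n) F := ((P⁻¹ : GL (Fin n) F) : Matrix _ _ F)
  have hPP : ∀ x, Pm.mulVec (Pi'.mulVec x) = x := fun x => by
    rw [Matrix.mulVec_mulVec, ← Units.val_mul, mul_inv_cancel, Units.val_one, Matrix.one_mulVec]
  have hPP' : ∀ x, Pi'.mulVec (Pm.mulVec x) = x := fun x => by
    rw [Matrix.mulVec_mulVec, ← Units.val_mul, inv_mul_cancel, Units.val_one, Matrix.one_mulVec]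
  let V₀ : Submodule F₀ (Fin n → F) :=
    { carrier := {x | ∀ i, Pi'.mulVec x i ∈ F₀}
      add_mem' := fun {a b} ha hb i => by rw [Matrix.mulVec_add]; exact add_mem (ha i) (hb i)
      zero_mem' := fun i => by rw [Matrix.mulVec_zero]; exact zero_mem F₀
      smul_mem' := fun c a ha i => by
        rw [CfsgLib.Classical.SubfieldMax.coe_smul_eq, Matrix.mulVec_smul]; exact mul_mem c.2 (ha i) }
  have hcol : ∀ j, Pm.mulVec (Pi.single j 1) ∈ V₀ := fun j i => by
    rw [hPP', Pi.single_apply]; split_ifs <;> [exact one_mem F₀; exact zero_mem F₀]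
  have hR : CfsgLib.Classical.SubfieldOrth.IsAFrame B V₀ ζ d := by
    refine ⟨CfsgLib.Classical.stdHerm_isHermitian hc n, CfsgLib.Classical.stdHerm_sepRight n, hfix, hd, hζ0,
      by rw [hσ]; linear_combination hζ, fun u hu v hv => ?_, fun u hu => ?_, eq_top_iff.2 fun x _ => ?_⟩
    · have h := hP _ _ hv hu
      rwa [hPP, hPP, CfsgLib.Classical.hermForm_eq_stdHerm hσ] at h
    · have h := halt (Pi'.mulVec u) hu
      rwa [hPP, CfsgLib.Classical.hermForm_eq_stdHerm hσ] at h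
    · rw [show x = ∑ j, Pi'.mulVec x j • Pm.mulVec (Pi.single j 1) by
        rw [← (Finset.sum_congr rfl fun j _ => Matrix.mulVec_smul Pm (Pi'.mulVec x j) (Pi.single j 1)),
          ← Matrix.mulVec_sum]
        conv_lhs => rw [← hPP x]
        congr 1
        ext i; simp [Finset.sum_apply, Pi.single_apply]]
      exact Submodule.sum_mem _ fun j _ => Submodule.smul_mem _ _ (Submodule.subset_span (hcol j))
  have hP' : ∀ g : CfsgLib.Classical.isomGroup B, CfsgLib.Classical.linToGL g.1 ∈ Geo.subfieldSubgroup F₀ P ↔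
      ∃ s : F, s ≠ 0 ∧ ∀ f ∈ V₀, s • g.1 f ∈ V₀ := by
    intro g
    rw [CfsgLib.Classical.SubfieldMax.mem_subfieldSubgroup_iff]
    refine exists_congr fun c => and_congr_right fun _ => ⟨fun h f hf i => ?_, fun h a b => ?_⟩
    · have e : Pi'.mulVec (c • g.1 f) =
          (c • ((P⁻¹ * CfsgLib.Classical.linToGL g.1 * P : GL (Fin n) F) : Matrix _ _ F)).mulVec (Pi'.mulVec f) := by
        rw [Matrix.mulVec_smul, Matrix.smul_mulVec, Units.val_mul, Units.val_mul, ← Matrix.mulVec_mulVec,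
          ← Matrix.mulVec_mulVec, show (P : Matrix _ _ F).mulVec (Pi'.mulVec f) = f from hPP f,
          CfsgLib.Classical.linToGL_mulVec]
      rw [e]
      simp only [Matrix.mulVec, dotProduct]
      refine Subfield.sum_mem _ fun j _ => mul_mem ?_ (hf j)
      exact h i j
    · have := h _ (hcol b) a
      rw [Matrix.mulVec_smul, Pi.smul_apply, ← CfsgLib.Classical.linToGL_mulVec, Matrix.mulVec_mulVec,
        Matrix.mulVec_mulVec, Matrix.mulVec_single_one] at this
      rw [Units.val_mul, Units.val_mul]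
      exact this
  refine CfsgLib.Classical.gu_isMaximalIn hσ _ (fun g => ∃ s : F, s ≠ 0 ∧ ∀ f ∈ V₀, s • g.1 f ∈ V₀) hP' ?_ ?_
  · obtain ⟨a, ha⟩ : ∃ a : V₀, a ≠ 0 := ⟨⟨_, hcol ⟨0, by omega⟩⟩, fun e => by
      have e' : Pm.mulVec (Pi.single (⟨0, by omega⟩ : Fin n) 1) = 0 := congrArg Subtype.val e
      have := hPP' (Pi.single (⟨0, by omega⟩ : Fin n) 1)
      rw [e', Matrix.mulVec_zero] at this
      simpa using congrFun this (⟨0, by omega⟩ : Fin n)⟩
    obtain ⟨b, hab⟩ : ∃ b : V₀, B (a : _ → F) (b : _ → F) ≠ 0 := by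
      by_contra h
      push Not at h
      exact ha (Subtype.ext (hR.sep fun u hu => hR.herm.isRefl _ _ (h ⟨u, hu⟩)))
    -- a transvection at a nonrational isotropic vector
    obtain ⟨x₁, hx₁, hax₁⟩ : ∃ x₁ : V₀, x₁ ∉ Submodule.span F₀ {a} ∧ B (a : _ → F) (x₁ : _ → F) = 0 := by
      by_contra h
      push Not at h
      have h1 := (hR.pair a).finrank_range_add_finrank_ker
      have h2 : Module.finrank F₀ (LinearMap.range (hR.pair a)) ≤ 1 := (Submodule.finrank_le _).trans (by simp)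
      have h3 : LinearMap.ker (hR.pair a) ≤ Submodule.span F₀ {a} := fun x hx => by
        by_contra hx'
        exact h x hx' (hR.pair_eq_zero.1 hx)
      have h4 := Submodule.finrank_mono h3
      rw [finrank_span_singleton ha] at h4
      have h5 : n ≤ Module.finrank F₀ V₀ := by
        have hsub : (V₀ : Set (Fin n → F)) ⊆ Submodule.span F
            (Set.range fun i => ((Module.finBasis F₀ V₀ i : V₀) : Fin n → F)) := by
          intro u hu
          have e := congrArg Subtype.val ((Module.finBasis F₀ V₀).sum_repr ⟨u, hu⟩)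
          simp only [Submodule.coe_sum, SetLike.val_smul] at e
          rw [← e]
          exact Submodule.sum_mem _ fun i _ => Submodule.smul_mem _ _ (Submodule.subset_span ⟨i, rfl⟩)
        have htop := eq_top_iff.2 (hR.spans ▸ Submodule.span_le.2 hsub)
        have := finrank_range_le_card (R := F) fun i => ((Module.finBasis F₀ V₀ i : V₀) : Fin n → F)
        rw [Set.finrank, htop, finrank_top, Fintype.card_fin, Module.finrank_fin_fun] at this
        exact this
      omega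
    set x : Fin n → F := (a : _ → F) + d • (x₁ : _ → F) with hx
    have hxx : B x x = 0 := by
      simp [hx, hR.alt _ a.2, hR.alt _ x₁.2, hax₁, hR.herm.isRefl _ _ hax₁]
    obtain ⟨t, ht⟩ := hR.herm.exists_uTv hR.nondeg (v := x) (c := ζ) hxx (by rw [hR.zeta_tr, add_neg_cancel])
    refine ⟨t, hR.herm.idet_uTv ht, fun ⟨s, hs, hsV⟩ => ?_⟩
    obtain ⟨b', hab', hxb'⟩ : ∃ b' : V₀, B (a : _ → F) (b' : _ → F) = 0 ∧ B (x₁ : _ → F) (b' : _ → F) ≠ 0 := by
      have h0 : x₁ ∉ Submodule.span F₀ {a} := hx₁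
      obtain ⟨c', h1, h2, -⟩ := hR.exists_common h0 h0
      exact ⟨c', h1, h2⟩
    -- a fixed vector makes the scalar rational
    have hperp : B x (a : _ → F) = 0 := by
      simp [hx, hR.alt _ a.2, hR.herm.isRefl _ _ hax₁]
    have h1 := hsV _ a.2
    rw [ht.2.2, hperp, mul_zero, zero_smul, add_zero] at h1
    have hs' : s ∈ F₀ := by
      have h := hR.form _ h1 _ b.2
      rw [map_smulₛₗ, LinearMap.smul_apply, smul_eq_mul, ← mul_assoc, mul_comm ζ, mul_assoc] at h
      have h0 := div_mem h (hR.form _ a.2 _ b.2)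
      rw [mul_div_cancel_right₀ _ (mul_ne_zero hR.zeta_ne hab)] at h0
      exact (hfix _).2 (by have := (hfix _).1 h0; rw [hc.invol] at this; exact this.symm)
    have h2 := hsV _ b'.2
    have h3 : (ζ * B x (b' : _ → F)) • x ∈ V₀ := by
      have e : s • t.1 (b' : _ → F) - s • (b' : _ → F) = s • ((ζ * B x (b' : _ → F)) • x) := by
        rw [ht.2.2, smul_add, add_sub_cancel_left]
      have h4 := V₀.sub_mem h2 (CfsgLib.Classical.SubfieldMax.smul_mem' hs' b'.2)
      rw [e] at h4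
      have h5 := CfsgLib.Classical.SubfieldMax.smul_mem' (inv_mem hs') h4
      rwa [inv_smul_smul₀ hs] at h5
    -- the coefficient is a nonzero multiple of the moved scalar
    have hk : ζ * B x (b' : _ → F) = σ d * (ζ * B (x₁ : _ → F) (b' : _ → F)) := by
      simp [hx, hab']; ring
    obtain ⟨k₀, k₁, hk01⟩ := hR.scalar_decomp (ζ * B x (b' : _ → F))
    obtain ⟨l₀, l₁, hl⟩ := hR.scalar_decomp (ζ * B x (b' : _ → F) * d)
    have hz := hR.vec_zero (a := k₀ • a + l₀ • x₁ - ⟨_, h3⟩) (b := k₁ • a + l₁ • x₁) (by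
      simp only [Submodule.coe_add, Submodule.coe_sub, SetLike.val_smul, CfsgLib.Classical.SubfieldMax.coe_smul_eq]
      rw [hx, smul_add, smul_smul, ← hl, ← hk01]
      module)
    have hk1 : k₁ = 0 := by
      by_contra hk1
      refine hx₁ ?_
      by_cases hl1 : l₁ = 0
      · rw [hl1, zero_smul, add_zero] at hz
        exact absurd ((smul_eq_zero.1 hz.2).resolve_left hk1) ha
      · exact Submodule.mem_span_singleton.2 ⟨-(k₁ / l₁), by
          rw [neg_smul, div_eq_inv_mul, mul_smul, eq_neg_of_add_eq_zero_left hz.2, smul_neg, inv_smul_smul₀ hl1, neg_neg]⟩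
    have hmem : ζ * B x (b' : _ → F) ∈ F₀ := by
      rw [← hk01, hk1]
      simp
    rw [hk] at hmem
    have h6 := div_mem hmem (hR.form _ x₁.2 _ b'.2)
    rw [mul_div_cancel_right₀ _ (mul_ne_zero hR.zeta_ne hxb')] at h6
    exact hd ((hfix d).1 ((hfix d).2 (hc.invol d ▸ (hfix _).1 h6).symm))
  · intro M hM g hg hgP
    refine hR.symp_top (M := M) (fun u hu g' c hg' => ?_) (by rw [Module.finrank_fin_fun]; omega) hg hgP
    refine hM g' (hR.herm.idet_uTv hg') ⟨1, one_ne_zero, fun f hf => ?_⟩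
    rw [one_smul, hg'.2.2]
    exact add_mem hf (CfsgLib.Classical.SubfieldMax.smul_mem' (hR.coeff_mem hg'.2.1 hu hf) hu)

end CfsgLib.Classical.GeoMaxSmall.SU
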